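import Mathlib

set_option autoImplicit false

namespace CfsgLib.CharTwo

/-- A non-degenerate alternating bilinear form lives on a space of even dimension. -/
theorem even_finrank_of_isAlt : ∀ (d : ℕ) {F : Type*} [Field F] {V : Type*} [AddCommGroup V] [Module F V]
    [FiniteDimensional F V] (B : V →ₗ[F] V →ₗ[F] F), Module.finrank F V = d →
    (∀ x, B x x = 0) → (∀ x, (∀ y, B x y = 0) → x = 0) → Even d := by
  intro d
  induction d using Nat.strong_induction_on with
  | _ d ih =>
    intro F _ V _ _ _ B hd halt hnd
    rcases Nat.eq_zero_or_pos d with h0 | hpos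
    · simp [h0]
    have : Nontrivial V := Module.nontrivial_of_finrank_pos (R := F) (by omega)
    obtain ⟨u, hu⟩ := exists_ne (0 : V)
    obtain ⟨v₀, hv₀⟩ : ∃ y, B u y ≠ 0 := by
      by_contra h
      exact hu (hnd u fun y => not_not.1 fun hy => h ⟨y, hy⟩)
    have huv : B u ((B u v₀)⁻¹ • v₀) = 1 := by simp [hv₀]
    generalize (B u v₀)⁻¹ • v₀ = v at huv
    have hskew : ∀ x y, B y x = - B x y := by
      intro x y
      have h := halt (x + y)
      simp only [map_add, LinearMap.add_apply, halt, zero_add, add_zero] at h
      linear_combination h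
    let φ : V →ₗ[F] F × F := (B u).prod (B v)
    have hsurj : Function.Surjective φ := by
      rintro ⟨a, b⟩
      refine ⟨a • v - b • u, ?_⟩
      simp [φ, huv, halt, hskew u v]
    have hdim : Module.finrank F (LinearMap.ker φ) + 2 = d := by
      have h := LinearMap.finrank_range_add_finrank_ker φ
      rw [LinearMap.range_eq_top.2 hsurj, finrank_top, Module.finrank_prod, Module.finrank_self, hd] at h
      omega
    let B' : LinearMap.ker φ →ₗ[F] LinearMap.ker φ →ₗ[F] F := B.compl₁₂ (LinearMap.ker φ).subtype (LinearMap.ker φ).subtype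
    have heven : Even (Module.finrank F (LinearMap.ker φ)) := by
      refine ih _ (by omega) B' rfl (fun x => halt x.1) ?_
      intro x hx
      apply Subtype.ext
      apply hnd
      intro y
      have hxker : B u x.1 = 0 ∧ B v x.1 = 0 := by
        have := x.2
        simpa [φ, LinearMap.mem_ker, Prod.ext_iff] using this
      have hmem : y - B u y • v + B v y • u ∈ LinearMap.ker φ := by
        simp [φ, LinearMap.mem_ker, Prod.ext_iff, huv, halt, hskew u v]
      have h := hx ⟨_, hmem⟩
      simp only [B', LinearMap.compl₁₂_apply, Submodule.coe_subtype, map_add, map_sub, map_smul] at h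
      simp only [smul_eq_mul] at h
      have hu' : B x.1 u = 0 := by
        have := hskew u x.1; rw [this, hxker.1, neg_zero]
      have hv' : B x.1 v = 0 := by
        have := hskew v x.1; rw [this, hxker.2, neg_zero]
      rw [hu', hv'] at h
      simpa using h
    rw [← hdim]
    obtain ⟨k, hk⟩ := heven
    exact ⟨k + 1, by omega⟩

end CfsgLib.CharTwo
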