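import Mathlib

set_option autoImplicit false

namespace CfsgLib.CharTwo

/-- If `N, N'` are self-adjoint for a separating pairing `f`, and an isometry `g` agrees on the image of `N`
with a map `φ` onto the image of `N'` respecting the induced pairings, then `g` intertwines `N` and `N'`. -/
theorem intertwine_of_isometry {V S : Type*} (f : V → V → S) (N N' g : V → V) (hg : Function.Surjective g)
    (hgf : ∀ u v, f (g u) (g v) = f u v) (hsep : ∀ a c, (∀ z, f a z = f c z) → a = c)
    (hN' : ∀ u v, f (N' u) v = f u (N' v)) (φ : V → V)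
    (hφ : ∀ u, ∃ u', N' u' = φ (N u)) (hφ' : ∀ u', ∃ u, N' u' = φ (N u))
    (hφf : ∀ u v u' v', N' u' = φ (N u) → N' v' = φ (N v) → f u' (N' v') = f u (N v))
    (hgφ : ∀ u, g (N u) = φ (N u)) (u : V) : g (N u) = N' (g u) := by
  refine hsep _ _ fun z => ?_
  obtain ⟨z₀, hz₀⟩ := hφ' z
  obtain ⟨u', hu'⟩ := hφ u
  rw [hgφ, ← hu', hN', hφf u z₀ u' z hu' hz₀, hN', hz₀, ← hgφ, hgf]

end CfsgLib.CharTwo
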