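import Mathlib

set_option autoImplicit false

namespace CfsgLib.CharTwo

/-- A matrix factoring through `ℓ` coordinates and having an identity submatrix of size `ℓ` has rank `ℓ`. -/
theorem rank_eq_of_factor_of_submatrix {F : Type*} [Field F] {n : Type*} [Fintype n] [DecidableEq n] {ℓ : ℕ}
    (M : Matrix n n F) (A : Matrix n (Fin ℓ) F) (B : Matrix (Fin ℓ) n F) (hAB : M = A * B)
    (f g : Fin ℓ → n) (hsub : M.submatrix f g = 1) : M.rank = ℓ := by
  apply le_antisymm
  · rw [hAB]
    exact le_trans (Matrix.rank_mul_le_left A B) (le_trans (Matrix.rank_le_card_width A) (by simp))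
  · have h1 : (M.submatrix f g).rank = ℓ := by rw [hsub]; simp
    have h2 : M.submatrix f g
        = (1 : Matrix n n F).submatrix f id * M * (1 : Matrix n n F).submatrix id g := by
      ext i j
      simp [Matrix.mul_apply, Matrix.submatrix, Matrix.one_apply]
    rw [h2] at h1
    calc ℓ = _ := h1.symm
      _ ≤ ((1 : Matrix n n F).submatrix f id * M).rank := Matrix.rank_mul_le_left _ _
      _ ≤ M.rank := Matrix.rank_mul_le_right _ _

/-- In characteristic two a non-trivial matrix whose difference with the identity squares to zero has order two. -/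
theorem mul_self_eq_one_of_sq_zero {F : Type*} [Field F] [CharP F 2] {n : Type*} [Fintype n] [DecidableEq n]
    (N : Matrix n n F) (h : N * N = 0) : (1 + N) * (1 + N) = 1 := by
  have h2 : N + N = 0 := by ext i j; simp [CharTwo.add_self_eq_zero]
  rw [mul_add, mul_one, add_mul, one_mul, h, add_zero, add_assoc, h2, add_zero]

end CfsgLib.CharTwo
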