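import Mathlib

set_option autoImplicit false

namespace CfsgLib.CharTwo

variable {F : Type*} [Field F] {V : Type*} [AddCommGroup V] [Module F V] [FiniteDimensional F V]

/-- A basis adapted to a square-zero endomorphism `N`: coordinates `((x, y), z)` in which `N` is `z ↦ x`. -/
theorem exists_squareZero_chart (N : V →ₗ[F] V) (hN : ∀ v, N (N v) = 0) {ℓ k : ℕ}
    (hℓ : Module.finrank F (LinearMap.range N) = ℓ) (hk : 2 * ℓ + k = Module.finrank F V) :
    ∃ E : (((Fin ℓ → F) × (Fin k → F)) × (Fin ℓ → F)) ≃ₗ[F] V, ∀ p, N (E p) = E ((p.2, 0), 0) := by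
  classical
  obtain ⟨sec, hsec⟩ := N.rangeRestrict.exists_rightInverse_of_surjective N.range_rangeRestrict
  have hsec' : ∀ x, N (sec x) = x.1 := fun x => congrArg Subtype.val (LinearMap.congr_fun hsec x)
  obtain ⟨C', hC'⟩ := Submodule.exists_isCompl (LinearMap.range N)
  set C := C' ⊓ LinearMap.ker N with hCdef
  have hC : ∀ c : C, N c.1 = 0 := fun c => LinearMap.mem_ker.1 c.2.2
  have hR : ∀ r : LinearMap.range N, N r.1 = 0 := by
    rintro ⟨r, u, rfl⟩
    exact hN u
  let Φ : ((LinearMap.range N × C) × LinearMap.range N) →ₗ[F] V :=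
    ((LinearMap.range N).subtype.coprod C.subtype).coprod sec
  have hNΦ : ∀ p, N (Φ p) = p.2.1 := fun p => by
    simp [Φ, hR, hC, hsec']
  have hinj : Function.Injective Φ := by
    rw [← LinearMap.ker_eq_bot, LinearMap.ker_eq_bot']
    rintro ⟨⟨r, c⟩, z⟩ h
    have hz : z = 0 := by
      apply Subtype.ext
      have := congrArg N h
      rwa [hNΦ, map_zero] at this
    subst hz
    have h' : r.1 + c.1 = 0 := by simpa [Φ] using h
    have hr : r.1 ∈ C' := by
      rw [eq_neg_of_add_eq_zero_left h']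
      exact C'.neg_mem c.2.1
    have hr0 : r.1 = 0 := Submodule.disjoint_def.1 hC'.disjoint _ r.2 hr
    have hc0 : c.1 = 0 := by rwa [hr0, zero_add] at h'
    simp only [Prod.ext_iff]
    exact ⟨⟨Subtype.ext hr0, Subtype.ext hc0⟩, rfl⟩
  have hsurj : Function.Surjective Φ := by
    intro v
    let z : LinearMap.range N := ⟨N v, LinearMap.mem_range_self N v⟩
    have hw : N (v - sec z) = 0 := by rw [map_sub, hsec']; exact sub_self _
    obtain ⟨r, c, hrc, -⟩ := Submodule.existsUnique_add_of_isCompl hC' (v - sec z)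
    have hc : c.1 ∈ LinearMap.ker N := by
      rw [LinearMap.mem_ker]
      have := congrArg N hrc
      rwa [map_add, hR r, zero_add, hw] at this
    refine ⟨((r, ⟨c.1, c.2, hc⟩), z), ?_⟩
    show (r.1 + c.1) + sec z = v
    rw [hrc, sub_add_cancel]
  let e := LinearEquiv.ofBijective Φ ⟨hinj, hsurj⟩
  have hdim := e.finrank_eq
  rw [Module.finrank_prod, Module.finrank_prod, hℓ] at hdim
  let er : (Fin ℓ → F) ≃ₗ[F] LinearMap.range N := LinearEquiv.ofFinrankEq _ _ (by simp [hℓ])
  let ec : (Fin k → F) ≃ₗ[F] C := LinearEquiv.ofFinrankEq _ _ (by rw [Module.finrank_fin_fun]; omega)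
  refine ⟨(((er.prodCongr ec).prodCongr er).trans e), fun p => ?_⟩
  show N (Φ ((er p.1.1, ec p.1.2), er p.2)) = Φ ((er p.2, ec 0), er 0)
  rw [hNΦ]
  simp [Φ]

/-- Square-zero endomorphisms of equal rank are conjugate by a map of any prescribed determinant, provided every
scalar is a square and the endomorphisms are non-zero. -/
theorem exists_conj_of_finrank_range_eq (hsq : ∀ d : F, ∃ e, e * e = d)
    (N N' : V →ₗ[F] V) (hN : ∀ v, N (N v) = 0) (hN' : ∀ v, N' (N' v) = 0)
    (hne : N ≠ 0) (hr : Module.finrank F (LinearMap.range N) = Module.finrank F (LinearMap.range N'))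
    (d : F) (hd : d ≠ 0) :
    ∃ g : V ≃ₗ[F] V, LinearMap.det (g : V →ₗ[F] V) = d ∧ ∀ v, g (N v) = N' (g v) := by
  classical
  set ℓ := Module.finrank F (LinearMap.range N) with hℓ
  have hℓpos : 0 < ℓ := by
    rw [hℓ]
    refine Nat.pos_of_ne_zero fun h => hne ?_
    rw [Submodule.finrank_eq_zero, LinearMap.range_eq_bot] at h
    exact h
  have hle : 2 * ℓ ≤ Module.finrank F V := by
    have h1 := LinearMap.finrank_range_add_finrank_ker N
    have h2 : LinearMap.range N ≤ LinearMap.ker N := by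
      rintro x ⟨u, rfl⟩
      exact hN u
    have h3 := Submodule.finrank_mono h2
    omega
  obtain ⟨k, hk⟩ := Nat.exists_eq_add_of_le hle
  obtain ⟨E, hE⟩ := exists_squareZero_chart N hN (ℓ := ℓ) (k := k) rfl hk.symm
  obtain ⟨E', hE'⟩ := exists_squareZero_chart N' hN' (ℓ := ℓ) (k := k) hr.symm hk.symm
  let g₀ := E.symm.trans E'
  have hg₀ : LinearMap.det (g₀ : V →ₗ[F] V) ≠ 0 := (LinearEquiv.isUnit_det' g₀).ne_zero
  obtain ⟨t, ht⟩ := hsq (d * (LinearMap.det (g₀ : V →ₗ[F] V))⁻¹)
  have htne : t ≠ 0 := by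
    rintro rfl
    rw [zero_mul] at ht
    exact mul_ne_zero hd (inv_ne_zero hg₀) ht.symm
  let i₀ : Fin ℓ := ⟨0, hℓpos⟩
  let s : (Fin ℓ → F) ≃ₗ[F] (Fin ℓ → F) := LinearEquiv.piCongrRight fun i => LinearEquiv.smulOfNeZero F F
    (if i = i₀ then t else 1) (by split_ifs <;> simp [htne])
  have hs : LinearMap.det (s : (Fin ℓ → F) →ₗ[F] (Fin ℓ → F)) = t := by
    have : (s : (Fin ℓ → F) →ₗ[F] (Fin ℓ → F)) =
        Matrix.toLin' (Matrix.diagonal fun i => if i = i₀ then t else 1) := by
      ext x i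
      simp only [s, LinearEquiv.piCongrRight_apply, LinearEquiv.smulOfNeZero, LinearEquiv.coe_coe,
        LinearMap.coe_comp, Function.comp_apply, Matrix.toLin'_apply, Matrix.mulVec_diagonal]
      rfl
    rw [this, LinearMap.det_toLin', Matrix.det_diagonal, Finset.prod_ite_eq']
    simp
  let S := (s.prodCongr (LinearEquiv.refl F (Fin k → F))).prodCongr s
  have hS : LinearMap.det S.toLinearMap = t * t := by
    have : S.toLinearMap = ((s : (Fin ℓ → F) →ₗ[F] (Fin ℓ → F)).prodMap LinearMap.id).prodMap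
        (s : (Fin ℓ → F) →ₗ[F] (Fin ℓ → F)) := LinearMap.ext fun p => rfl
    rw [this, LinearMap.det_prodMap, LinearMap.det_prodMap, hs, LinearMap.det_id, mul_one]
  refine ⟨(E.symm.trans (S.trans E)).trans g₀, ?_, fun v => ?_⟩
  · rw [LinearEquiv.coe_trans, LinearMap.det_comp]
    have hc : ((E.symm.trans (S.trans E) : V ≃ₗ[F] V) : V →ₗ[F] V) =
        E.toLinearMap ∘ₗ S.toLinearMap ∘ₗ E.symm.toLinearMap := LinearMap.ext fun v => rfl
    rw [hc, LinearMap.det_conj, hS, ht]
    field_simp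
  · show E' (E.symm (E (S (E.symm (N v))))) = N' (E' (E.symm (E (S (E.symm v)))))
    obtain ⟨p, rfl⟩ := E.surjective v
    simp only [hE, LinearEquiv.symm_apply_apply, hE']
    simp [S]

end CfsgLib.CharTwo
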