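import Mathlib
import Cfsg.Agent.CharTwo.AlternatingForm

/-!
# Non-degenerate symmetric bilinear forms over perfect fields of characteristic two
-/

set_option autoImplicit false

namespace CfsgLib.CharTwo

open Module

variable {F : Type*} [Field F] [CharP F 2] {V : Type*} [AddCommGroup V] [Module F V] [FiniteDimensional F V]

omit [FiniteDimensional F V] in
theorem diag_add (B : V →ₗ[F] V →ₗ[F] F) (hsym : ∀ x y, B x y = B y x) (x y : V) :
    B (x + y) (x + y) = B x x + B y y := by
  simp only [map_add, LinearMap.add_apply, hsym y x]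
  linear_combination CharTwo.add_self_eq_zero (B x y)

/-- A vector of length one whose orthogonal hyperplane is zero or non-alternating. -/
theorem exists_good_unit (hsq : ∀ d : F, ∃ e, e * e = d) (B : V →ₗ[F] V →ₗ[F] F) (hsym : ∀ x y, B x y = B y x)
    (hnd : ∀ x, (∀ y, B x y = 0) → x = 0) (hdiag : ∃ x, B x x ≠ 0) :
    ∃ v, B v v = 1 ∧ ((∀ x, B v x = 0 → x = 0) ∨ ∃ x, B v x = 0 ∧ B x x ≠ 0) := by
  obtain ⟨x, hx⟩ := hdiag
  obtain ⟨e, he⟩ := hsq (B x x)⁻¹
  have hv : B (e • x) (e • x) = 1 := by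
    simp only [map_smul, LinearMap.smul_apply, smul_eq_mul, ← mul_assoc, he, inv_mul_cancel₀ hx]
  generalize e • x = v at hv
  by_cases h : ∃ z, B v z = 0 ∧ B z z ≠ 0
  · exact ⟨v, hv, Or.inr h⟩
  have halt : ∀ z, B v z = 0 → B z z = 0 := fun z hz => not_not.1 fun hzz => h ⟨z, hz, hzz⟩
  by_cases h0 : ∀ z, B v z = 0 → z = 0
  · exact ⟨v, hv, Or.inl h0⟩
  obtain ⟨u, hu⟩ := not_forall.1 h0
  obtain ⟨hvu, hu0⟩ := Classical.not_imp.1 hu
  obtain ⟨y, hy⟩ : ∃ y, B u y ≠ 0 := by
    by_contra h'
    exact hu0 (hnd u fun y => not_not.1 fun hy => h' ⟨y, hy⟩)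
  have hvw : B v (y - B v y • v) = 0 := by simp [hv]
  have huw : B u (y - B v y • v) = B u y := by simp [hsym u v, hvu]
  refine ⟨v + u, ?_, Or.inr ⟨v + (B u y)⁻¹ • (y - B v y • v), ?_, ?_⟩⟩
  · rw [diag_add B hsym, hv, halt u hvu, add_zero]
  · rw [LinearMap.map_add₂, map_add, map_add, map_smul, map_smul, hvw, huw, smul_zero, smul_eq_mul,
      inv_mul_cancel₀ hy, hv, hsym u v, hvu]
    linear_combination CharTwo.add_self_eq_zero (1 : F)
  · rw [diag_add B hsym, hv, halt _ (by rw [map_smul, hvw, smul_zero]), add_zero]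
    exact one_ne_zero

theorem orthonormal_basis_aux (hsq : ∀ d : F, ∃ e, e * e = d) : ∀ (n : ℕ) {W : Type*} [AddCommGroup W]
    [Module F W] [FiniteDimensional F W] (B : W →ₗ[F] W →ₗ[F] F), finrank F W = n →
    (∀ x y, B x y = B y x) → (∀ x, (∀ y, B x y = 0) → x = 0) → (n = 0 ∨ ∃ x, B x x ≠ 0) →
    ∃ E : (Fin n → F) ≃ₗ[F] W, ∀ a c, B (E a) (E c) = ∑ i, a i * c i := by
  intro n
  induction n with
  | zero =>
    intro W _ _ _ B hd hsym hnd _
    haveI : Subsingleton W := Module.finrank_zero_iff.1 hd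
    refine ⟨LinearEquiv.ofSubsingleton (Fin 0 → F) W, fun a c => ?_⟩
    rw [Subsingleton.elim (LinearEquiv.ofSubsingleton (Fin 0 → F) W a) 0]
    simp
  | succ n ih =>
    intro W _ _ _ B hd hsym hnd hdiag
    obtain ⟨v, hv, hgood⟩ := exists_good_unit hsq B hsym hnd (hdiag.resolve_left (by omega))
    let K := LinearMap.ker (B v)
    have hK : finrank F K = n := by
      have h := LinearMap.finrank_range_add_finrank_ker (B v)
      have e : LinearMap.range (B v) = ⊤ := by
        rw [eq_top_iff]; exact fun r _ => ⟨r • v, by simp [hv]⟩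
      rw [e, finrank_top, Module.finrank_self, hd] at h
      show finrank F (LinearMap.ker (B v)) = n
      omega
    have hKv : ∀ k : K, B v (k : W) = 0 := fun k => k.2
    have hproj : ∀ y, y - B v y • v ∈ K := fun y => by simp [K, hv]
    obtain ⟨E, hE⟩ := ih (B.compl₁₂ K.subtype K.subtype) hK (fun x y => hsym _ _)
      (fun x hx => Subtype.ext (hnd _ fun y => by
        have h := hx ⟨_, hproj y⟩
        simp only [LinearMap.compl₁₂_apply, Submodule.coe_subtype, map_sub, map_smul, hsym (x : W) v, hKv x,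
          smul_zero, sub_zero] at h
        exact h))
      (by
        rcases hgood with h | ⟨z, hz, hzz⟩
        · left
          have : K = ⊥ := (Submodule.eq_bot_iff _).2 h
          rw [this, finrank_bot] at hK
          exact hK.symm
        · exact Or.inr ⟨⟨z, hz⟩, hzz⟩)
    let L : (Fin (n + 1) → F) →ₗ[F] W :=
      (LinearMap.proj 0).smulRight v + K.subtype ∘ₗ E.toLinearMap ∘ₗ LinearMap.funLeft F F Fin.succ
    have hL : ∀ a, L a = a 0 • v + (E (fun i => a i.succ) : W) := fun a => rfl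
    have hLB : ∀ a c, B (L a) (L c) = ∑ i, a i * c i := fun a c => by
      have h := hE (fun i => a i.succ) (fun i => c i.succ)
      simp only [LinearMap.compl₁₂_apply, Submodule.coe_subtype] at h
      simp only [hL, map_add, map_smul, LinearMap.add_apply, LinearMap.smul_apply, hv, hKv, h,
        hsym _ v, smul_eq_mul, Fin.sum_univ_succ]
      ring
    have hinj : Function.Injective L := by
      rw [← LinearMap.ker_eq_bot, LinearMap.ker_eq_bot']
      intro a ha
      funext i
      have h := hLB a (Pi.single i 1)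
      rw [ha] at h
      simpa [Pi.single_apply] using h.symm
    exact ⟨LinearEquiv.ofBijective L ⟨hinj, (LinearMap.injective_iff_surjective_of_finrank_eq_finrank
      (by rw [Module.finrank_fin_fun, hd])).1 hinj⟩, hLB⟩

variable {W : Type*} [AddCommGroup W] [Module F W] [FiniteDimensional F W]

/-- Symmetric non-degenerate forms are classified by the dimension and by being alternating or not. -/
theorem exists_isometry_of_symm (hsq : ∀ d : F, ∃ e, e * e = d) (B : V →ₗ[F] V →ₗ[F] F) (C : W →ₗ[F] W →ₗ[F] F)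
    (hBs : ∀ x y, B x y = B y x) (hCs : ∀ x y, C x y = C y x) (hB : ∀ x, (∀ y, B x y = 0) → x = 0)
    (hC : ∀ x, (∀ y, C x y = 0) → x = 0) (hd : finrank F V = finrank F W)
    (halt : (∀ x, B x x = 0) ↔ ∀ x, C x x = 0) :
    ∃ φ : V ≃ₗ[F] W, ∀ x y, C (φ x) (φ y) = B x y := by
  by_cases hBa : ∀ x, B x x = 0
  · have hCa := halt.1 hBa
    let B' : (V × F) →ₗ[F] (V × F) →ₗ[F] F := LinearMap.mk₂ F (fun a b => B a.1 b.1 + a.2 * b.2)
      (fun a b c => by simp; ring) (fun r a b => by simp; ring) (fun a b c => by simp; ring)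
      (fun r a b => by simp; ring)
    let C' : (W × F) →ₗ[F] (W × F) →ₗ[F] F := LinearMap.mk₂ F (fun a b => C a.1 b.1 + a.2 * b.2)
      (fun a b c => by simp; ring) (fun r a b => by simp; ring) (fun a b c => by simp; ring)
      (fun r a b => by simp; ring)
    have hB' : ∀ a b, B' a b = B a.1 b.1 + a.2 * b.2 := fun a b => rfl
    have hC' : ∀ a b, C' a b = C a.1 b.1 + a.2 * b.2 := fun a b => rfl
    obtain ⟨E, hE⟩ := orthonormal_basis_aux hsq (finrank F V + 1) B'
      (by rw [Module.finrank_prod, Module.finrank_self]) (fun a b => by rw [hB', hB', hBs]; ring)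
      (fun a ha => by
        have h2 : a.2 = 0 := by simpa [hB'] using ha (0, 1)
        exact Prod.ext (hB a.1 fun y => by simpa [hB'] using ha (y, 0)) h2)
      (Or.inr ⟨(0, 1), by simp [hB']⟩)
    obtain ⟨E', hE'⟩ := orthonormal_basis_aux hsq (finrank F V + 1) C'
      (by rw [Module.finrank_prod, Module.finrank_self, hd]) (fun a b => by rw [hC', hC', hCs]; ring)
      (fun a ha => by
        have h2 : a.2 = 0 := by simpa [hC'] using ha (0, 1)
        exact Prod.ext (hC a.1 fun y => by simpa [hC'] using ha (y, 0)) h2)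
      (Or.inr ⟨(0, 1), by simp [hC']⟩)
    let Φ := E.symm.trans E'
    have hΦ : ∀ a b, C' (Φ a) (Φ b) = B' a b := fun a b => by
      simp only [Φ, LinearEquiv.trans_apply]
      rw [hE', ← hE, LinearEquiv.apply_symm_apply, LinearEquiv.apply_symm_apply]
    have hsnd : ∀ x : V, (Φ (x, 0)).2 = 0 := fun x => by
      have h := hΦ (x, 0) (x, 0)
      rw [hB', hC', hCa, hBa, zero_add, zero_add, mul_zero] at h
      exact mul_self_eq_zero.1 h
    let ψ : V →ₗ[F] W := LinearMap.fst F W F ∘ₗ Φ.toLinearMap ∘ₗ LinearMap.inl F V F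
    have hψB : ∀ x y, C (ψ x) (ψ y) = B x y := fun x y => by
      have h := hΦ (x, 0) (y, 0)
      rw [hC', hB', hsnd, zero_mul, mul_zero, add_zero, add_zero] at h
      exact h
    have hinj : Function.Injective ψ := by
      rw [← LinearMap.ker_eq_bot, LinearMap.ker_eq_bot']
      exact fun x hx => hB x fun y => by rw [← hψB, hx, map_zero, LinearMap.zero_apply]
    exact ⟨LinearEquiv.ofBijective ψ ⟨hinj,
      (LinearMap.injective_iff_surjective_of_finrank_eq_finrank hd).1 hinj⟩, hψB⟩
  · have hCa : ∃ x, C x x ≠ 0 := not_forall.1 (fun h => hBa (halt.2 h))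
    obtain ⟨E, hE⟩ := orthonormal_basis_aux hsq _ B rfl hBs hB (Or.inr (not_forall.1 hBa))
    obtain ⟨E', hE'⟩ := orthonormal_basis_aux hsq _ C hd.symm hCs hC (Or.inr hCa)
    refine ⟨E.symm.trans E', fun x y => ?_⟩
    simp only [LinearEquiv.trans_apply]
    rw [hE', ← hE, LinearEquiv.apply_symm_apply, LinearEquiv.apply_symm_apply]

end CfsgLib.CharTwo
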