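import Mathlib
import Cfsg.Prelude.Def_ClassicalGeometry

set_option autoImplicit false

namespace CfsgLib.CharTwo

open Matrix

variable {F : Type*} [Field F] {m : ℕ}

/-- `Cfsg.sympForm` as a bilinear map. -/
def sympBil (m : ℕ) (F : Type*) [Field F] : (Fin m ⊕ Fin m → F) →ₗ[F] (Fin m ⊕ Fin m → F) →ₗ[F] F :=
  Matrix.toBilin' (Matrix.J (Fin m) F)

theorem sympBil_apply (u v : Fin m ⊕ Fin m → F) : sympBil m F u v = Cfsg.sympForm m F u v :=
  Matrix.toBilin'_apply' _ u v

theorem sympBil_preserved (a : ↥(Matrix.symplecticGroup (Fin m) F)) (u v : Fin m ⊕ Fin m → F) :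
    sympBil m F ((a : Matrix (Fin m ⊕ Fin m) (Fin m ⊕ Fin m) F) *ᵥ u)
      ((a : Matrix (Fin m ⊕ Fin m) (Fin m ⊕ Fin m) F) *ᵥ v) = sympBil m F u v := by
  have h := SymplecticGroup.mem_iff'.1 a.2
  rw [sympBil_apply, sympBil_apply]
  unfold Cfsg.sympForm
  rw [Matrix.mulVec_mulVec, Matrix.dotProduct_mulVec, Matrix.vecMul_mulVec, ← Matrix.mul_assoc, h,
    ← Matrix.dotProduct_mulVec]

theorem sympBil_swap (u v : Fin m ⊕ Fin m → F) : sympBil m F v u = - sympBil m F u v := by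
  simp only [sympBil_apply, Cfsg.sympForm]
  rw [dotProduct_comm, ← Matrix.vecMul_transpose, Matrix.J_transpose, ← Matrix.dotProduct_mulVec,
    Matrix.neg_mulVec, dotProduct_neg]

theorem sympBil_self (u : Fin m ⊕ Fin m → F) : sympBil m F u u = 0 := by
  simp only [sympBil_apply, Cfsg.sympForm, Matrix.J, dotProduct, Matrix.fromBlocks_mulVec,
    Fintype.sum_sum_type]
  simp [Matrix.neg_mulVec, mul_comm]

theorem sympBil_nondeg (u : Fin m ⊕ Fin m → F) (h : ∀ v, sympBil m F u v = 0) : u = 0 := by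
  have key : ∀ v, sympBil m F u ((-Matrix.J (Fin m) F) *ᵥ v) = u ⬝ᵥ v := by
    intro v
    rw [sympBil_apply, Cfsg.sympForm, Matrix.mulVec_mulVec, Matrix.mul_neg, Matrix.J_squared, neg_neg,
      Matrix.one_mulVec]
  funext i
  have h2 := key (Pi.single i 1)
  rw [h, dotProduct_single, mul_one] at h2
  simpa using h2.symm

end CfsgLib.CharTwo
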