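import Mathlib
import Cfsg.Agent.CharTwo.SympBasic
import Cfsg.Agent.CharTwo.SymmetricForm
import Cfsg.Agent.CharTwo.Intertwine
import Cfsg.Agent.Forms.Witt

/-!
# Involutions of the symplectic group in characteristic two
-/

set_option autoImplicit false

namespace CfsgLib.CharTwo

open Module Matrix

variable {F : Type*} [Field F] [CharP F 2] {m : ℕ}

local notation "Vec" => (Fin m ⊕ Fin m → F)

omit [CharP F 2] in
theorem mem_symplectic_of_preserved (M : Matrix (Fin m ⊕ Fin m) (Fin m ⊕ Fin m) F)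
    (h : ∀ u v, sympBil m F (M *ᵥ u) (M *ᵥ v) = sympBil m F u v) : M ∈ Matrix.symplecticGroup (Fin m) F := by
  rw [SymplecticGroup.mem_iff']
  refine (Matrix.toBilin' (R₁ := F) (n := Fin m ⊕ Fin m)).injective (LinearMap.ext fun u => LinearMap.ext fun v => ?_)
  have hh := h u v
  simp only [sympBil, Matrix.toBilin'_apply', Matrix.mulVec_mulVec] at hh ⊢
  rw [Matrix.mul_assoc, ← Matrix.mulVec_mulVec, Matrix.dotProduct_mulVec, Matrix.vecMul_transpose]
  exact hh

/-- The induced form on the displacement space of a symplectic involution. -/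
theorem exists_induced (T : Matrix (Fin m ⊕ Fin m) (Fin m ⊕ Fin m) F)
    (hT : ∀ u v, sympBil m F (T *ᵥ u) (T *ᵥ v) = sympBil m F u v) (hTT : T * T = 1) :
    (∀ u v, sympBil m F ((T - 1).mulVecLin u) v = sympBil m F u ((T - 1).mulVecLin v)) ∧
    ∃ B : LinearMap.range (T - 1).mulVecLin →ₗ[F] LinearMap.range (T - 1).mulVecLin →ₗ[F] F,
      (∀ u v, B ⟨_, LinearMap.mem_range_self (T - 1).mulVecLin u⟩ ⟨_, LinearMap.mem_range_self (T - 1).mulVecLin v⟩
        = sympBil m F u ((T - 1).mulVecLin v)) ∧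
      (∀ x y, B x y = B y x) ∧ (∀ x, (∀ y, B x y = 0) → x = 0) ∧
      ((∀ x, B x x = 0) ↔ ∀ v, Cfsg.sympForm m F v (T *ᵥ v) = 0) := by
  set N := (T - 1).mulVecLin with hNdef
  have hN : ∀ v, N v = T *ᵥ v - v := fun v => by
    rw [hNdef, Matrix.mulVecLin_apply, Matrix.sub_mulVec, Matrix.one_mulVec]
  have hsym : ∀ u v : Vec, sympBil m F u v = sympBil m F v u := fun u v => by
    rw [sympBil_swap u v, CharTwo.neg_eq]
  have hsa : ∀ u v, sympBil m F (N u) v = sympBil m F u (N v) := fun u v => by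
    rw [hN, hN, map_sub, map_sub, LinearMap.sub_apply]
    congr 1
    conv_lhs => rw [← hT, Matrix.mulVec_mulVec, hTT, Matrix.one_mulVec]
  obtain ⟨sec, hsec⟩ := N.rangeRestrict.exists_rightInverse_of_surjective N.range_rangeRestrict
  have hsec' : ∀ x, N (sec x) = x.1 := fun x => congrArg Subtype.val (LinearMap.congr_fun hsec x)
  let B : LinearMap.range N →ₗ[F] LinearMap.range N →ₗ[F] F :=
    (sympBil m F).compl₁₂ sec (LinearMap.range N).subtype
  have hB : ∀ u v, B ⟨_, LinearMap.mem_range_self N u⟩ ⟨_, LinearMap.mem_range_self N v⟩ = sympBil m F u (N v) :=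
    fun u v => by
      show sympBil m F (sec ⟨_, LinearMap.mem_range_self N u⟩) (N v) = _
      rw [← hsa, hsec', hsa]
  refine ⟨hsa, B, hB, ?_, ?_, ?_⟩
  · rintro ⟨_, u, rfl⟩ ⟨_, v, rfl⟩
    rw [hB, hB, ← hsa, hsym]
  · rintro ⟨_, u, rfl⟩ hx
    refine Subtype.ext (sympBil_nondeg _ fun v => ?_)
    rw [hsa, ← hB]
    exact hx _
  · have key : ∀ v, B ⟨_, LinearMap.mem_range_self N v⟩ ⟨_, LinearMap.mem_range_self N v⟩ =
        Cfsg.sympForm m F v (T *ᵥ v) := fun v => by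
      rw [hB, hN, map_sub, sympBil_self, sub_zero, sympBil_apply]
    constructor
    · exact fun h v => by rw [← key]; exact h _
    · rintro h ⟨_, v, rfl⟩
      rw [key]; exact h v

/-- Two symplectic involutions with the same rank and the same type are conjugate. -/
theorem exists_symplectic_conj [Finite F] (a b : ↥(Matrix.symplecticGroup (Fin m) F)) (ha : a * a = 1) (hb : b * b = 1)
    (hr : ((a : Matrix (Fin m ⊕ Fin m) (Fin m ⊕ Fin m) F) - 1).rank =
      ((b : Matrix (Fin m ⊕ Fin m) (Fin m ⊕ Fin m) F) - 1).rank)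
    (halt : (∀ v, Cfsg.sympForm m F v ((a : Matrix (Fin m ⊕ Fin m) (Fin m ⊕ Fin m) F) *ᵥ v) = 0) ↔
      (∀ v, Cfsg.sympForm m F v ((b : Matrix (Fin m ⊕ Fin m) (Fin m ⊕ Fin m) F) *ᵥ v) = 0)) : IsConj a b := by
  have hsq : ∀ d : F, ∃ e, e * e = d := fun d =>
    haveI : Fact (Nat.Prime 2) := ⟨Nat.prime_two⟩
    ⟨(frobeniusEquiv F 2).symm d, by rw [← pow_two]; exact frobeniusEquiv_symm_pow_p (R := F) 2 d⟩
  obtain ⟨hsa, B, hB, hBs, hBn, hBa⟩ := exists_induced _ (sympBil_preserved a) (congrArg Subtype.val ha)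
  obtain ⟨hsb, C, hC, hCs, hCn, hCa⟩ := exists_induced _ (sympBil_preserved b) (congrArg Subtype.val hb)
  obtain ⟨φ, hφ⟩ := exists_isometry_of_symm hsq B C hBs hCs hBn hCn hr (by rw [hBa, hCa]; exact halt)
  let N := ((a : Matrix (Fin m ⊕ Fin m) (Fin m ⊕ Fin m) F) - 1).mulVecLin
  let N' := ((b : Matrix (Fin m ⊕ Fin m) (Fin m ⊕ Fin m) F) - 1).mulVecLin
  have hsym : ∀ u v : Vec, sympBil m F u v = sympBil m F v u := fun u v => by
    rw [sympBil_swap u v, CharTwo.neg_eq]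
  have hnd : (sympBil m F).Nondegenerate :=
    ⟨fun x h => sympBil_nondeg x h, fun y h => sympBil_nondeg y fun x => by rw [hsym]; exact h x⟩
  have hiso : ∀ (T : ↥(Matrix.symplecticGroup (Fin m) F)), T * T = 1 → ∀ u v,
      sympBil m F (((T : Matrix (Fin m ⊕ Fin m) (Fin m ⊕ Fin m) F) - 1).mulVecLin u)
        (((T : Matrix (Fin m ⊕ Fin m) (Fin m ⊕ Fin m) F) - 1).mulVecLin v) = 0 := fun T hT u v => by
    rw [(exists_induced _ (sympBil_preserved T) (congrArg Subtype.val hT)).1]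
    simp only [Matrix.mulVecLin_apply, Matrix.mulVec_mulVec]
    have hT' : (T : Matrix (Fin m ⊕ Fin m) (Fin m ⊕ Fin m) F) * T = 1 := congrArg Subtype.val hT
    have : ((T : Matrix (Fin m ⊕ Fin m) (Fin m ⊕ Fin m) F) - 1) * ((T : Matrix (Fin m ⊕ Fin m) (Fin m ⊕ Fin m) F) - 1) = 0 := by
      rw [sub_mul, mul_sub, mul_sub, hT', one_mul, mul_one, one_mul]
      ext i j
      simp only [Matrix.sub_apply, Matrix.zero_apply, CharTwo.sub_eq_add]
      linear_combination CharTwo.add_self_eq_zero ((1 : Matrix (Fin m ⊕ Fin m) (Fin m ⊕ Fin m) F) i j) +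
        CharTwo.add_self_eq_zero ((T : Matrix (Fin m ⊕ Fin m) (Fin m ⊕ Fin m) F) i j)
    rw [this, Matrix.zero_mulVec, map_zero]
  obtain ⟨g, hg, hgφ⟩ := CfsgLib.Forms.witt_alt (sympBil m F) hnd (fun v => sympBil_self v) _ _ φ (fun x x' => by
    obtain ⟨_, u, rfl⟩ := x
    obtain ⟨_, v, rfl⟩ := x'
    obtain ⟨u', hu'⟩ := (φ ⟨_, LinearMap.mem_range_self N u⟩).2
    obtain ⟨v', hv'⟩ := (φ ⟨_, LinearMap.mem_range_self N v⟩).2
    rw [← hu', ← hv', hiso b hb, hiso a ha])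
  have hint : ∀ u, g (N u) = N' (g u) := by
    refine intertwine_of_isometry (fun u v => sympBil m F u v) N N' g g.surjective hg
      (fun p c h => sub_eq_zero.1 (sympBil_nondeg _ fun z => by rw [map_sub, LinearMap.sub_apply, h z, sub_self]))
      hsb g (fun u => ?_) (fun u' => ?_) (fun u v u' v' hu hv => ?_) (fun _ => rfl)
    · rw [hgφ ⟨_, LinearMap.mem_range_self N u⟩]
      exact (φ ⟨_, LinearMap.mem_range_self N u⟩).2
    · obtain ⟨⟨_, u, rfl⟩, hx⟩ := φ.surjective ⟨_, LinearMap.mem_range_self N' u'⟩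
      exact ⟨u, by rw [hgφ ⟨_, LinearMap.mem_range_self N u⟩, hx]⟩
    · rw [hgφ ⟨_, LinearMap.mem_range_self N u⟩] at hu
      rw [hgφ ⟨_, LinearMap.mem_range_self N v⟩] at hv
      show sympBil m F u' (N' v') = sympBil m F u (N v)
      rw [← hC, ← hB, ← hφ,
        show (⟨_, LinearMap.mem_range_self N' u'⟩ : LinearMap.range N') = φ ⟨_, LinearMap.mem_range_self N u⟩ from Subtype.ext hu,
        show (⟨_, LinearMap.mem_range_self N' v'⟩ : LinearMap.range N') = φ ⟨_, LinearMap.mem_range_self N v⟩ from Subtype.ext hv]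
  let M := LinearMap.toMatrix' (g : Vec →ₗ[F] Vec)
  have hM : ∀ u, M *ᵥ u = g u := fun u => LinearMap.toMatrix'_mulVec _ u
  let c : ↥(Matrix.symplecticGroup (Fin m) F) :=
    ⟨M, mem_symplectic_of_preserved M fun u v => by rw [hM, hM]; exact hg u v⟩
  refine isConj_iff.2 ⟨c, mul_inv_eq_iff_eq_mul.2 (Subtype.ext (Matrix.toLin'.injective (LinearMap.ext fun u => ?_)))⟩
  simp only [Matrix.toLin'_apply]
  show (M * (a : Matrix (Fin m ⊕ Fin m) (Fin m ⊕ Fin m) F)) *ᵥ u = ((b : Matrix (Fin m ⊕ Fin m) (Fin m ⊕ Fin m) F) * M) *ᵥ u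
  rw [← Matrix.mulVec_mulVec, ← Matrix.mulVec_mulVec, hM, hM]
  have h := hint u
  have hNa : N u = (a : Matrix (Fin m ⊕ Fin m) (Fin m ⊕ Fin m) F) *ᵥ u - u := by
    show ((a : Matrix (Fin m ⊕ Fin m) (Fin m ⊕ Fin m) F) - 1) *ᵥ u = _
    rw [Matrix.sub_mulVec, Matrix.one_mulVec]
  have hNb : N' (g u) = (b : Matrix (Fin m ⊕ Fin m) (Fin m ⊕ Fin m) F) *ᵥ g u - g u := by
    show ((b : Matrix (Fin m ⊕ Fin m) (Fin m ⊕ Fin m) F) - 1) *ᵥ g u = _
    rw [Matrix.sub_mulVec, Matrix.one_mulVec]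
  rw [hNa, hNb, map_sub] at h
  exact sub_left_injective h

end CfsgLib.CharTwo
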