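import Mathlib
import Cfsg.Prelude.Def_Classical
import Cfsg.Agent.CharTwo.Intertwine
import Cfsg.Agent.CharTwo.RankCriterion
import Cfsg.Agent.Forms.Witt
import Cfsg.Agent.Forms.Diagonal

/-!
# Involutions of the special unitary group in characteristic two
-/

set_option autoImplicit false

namespace CfsgLib.CharTwo

open Module Matrix

variable {F : Type*} [Field F] {n : ℕ}

/-- `Cfsg.hermForm`, arguments exchanged, as a sesquilinear map. -/
def hermSesq (n : ℕ) (σ : F →+* F) : (Fin n → F) →ₛₗ[σ] (Fin n → F) →ₗ[F] F :=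
  LinearMap.mk₂'ₛₗ σ (RingHom.id F) (fun x y => ∑ i, y i * σ (x i))
    (fun x x' y => by simp [mul_add, Finset.sum_add_distrib])
    (fun c x y => by simp [Finset.mul_sum, mul_left_comm])
    (fun x y y' => by simp [add_mul, Finset.sum_add_distrib])
    (fun c x y => by simp [Finset.mul_sum, mul_assoc])

theorem hermSesq_apply (σ : F →+* F) (x y : Fin n → F) : hermSesq n σ x y = ∑ i, y i * σ (x i) := rfl

theorem hermSesq_isSymm (σ : F →+* F) (hσ2 : ∀ a, σ (σ a) = a) : (hermSesq n σ).IsSymm := by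
  refine ⟨fun x y => ?_⟩
  simp [hermSesq_apply, map_sum, hσ2, mul_comm]

theorem hermSesq_sep (σ : F →+* F) (x : Fin n → F) (h : ∀ y, hermSesq n σ x y = 0) : x = 0 := by
  funext i
  have := h (Pi.single i 1)
  rw [hermSesq_apply, Finset.sum_eq_single i (fun b _ hb => by simp [hb]) (by simp)] at this
  simpa using this

/-- Preservation of the form as a matrix identity. -/
theorem transpose_mul_map_eq_one (σ : F →+* F) (M : Matrix (Fin n) (Fin n) F)
    (h : ∀ u v, hermSesq n σ (M *ᵥ u) (M *ᵥ v) = hermSesq n σ u v) : Mᵀ * M.map σ = 1 := by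
  ext i j
  have hh := h (Pi.single j 1) (Pi.single i 1)
  rw [hermSesq_apply, hermSesq_apply] at hh
  simp only [Matrix.mulVec_single_one, Matrix.col_apply] at hh
  rw [Matrix.mul_apply]
  simp only [Matrix.transpose_apply, Matrix.map_apply, hh]
  rw [Finset.sum_eq_single i (fun b _ hb => by simp [hb]) (by simp)]
  by_cases hij : i = j
  · simp [hij, Matrix.one_apply]
  · simp [hij, Pi.single_eq_of_ne hij]

variable [CharP F 2]

/-- A square-zero self-adjoint map: centraliser elements of every norm-one determinant. -/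
theorem exists_commute_det (σ : F →+* F) (hσ2 : ∀ a, σ (σ a) = a) (N : Matrix (Fin n) (Fin n) F)
    (hsa : ∀ u v, hermSesq n σ (N *ᵥ u) v = hermSesq n σ u (N *ᵥ v)) (hNN : N * N = 0)
    (v : Fin n → F) (hv : hermSesq n σ v (N *ᵥ v) = 1) (l : F) (hl : σ l * l = 1) :
    ∃ C : Matrix (Fin n) (Fin n) F, C.det = l * l ∧ C * N = N * C ∧
      ∀ u z, hermSesq n σ (C *ᵥ u) (C *ᵥ z) = hermSesq n σ u z := by
  set H := hermSesq n σ with hH
  set w := N *ᵥ v with hw
  set a := H v v with ha
  have hS := hermSesq_isSymm (n := n) σ hσ2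
  have hsymm : ∀ x y, σ (H x y) = H y x := fun x y => hS.eq x y
  have hNw : N *ᵥ w = 0 := by rw [hw, Matrix.mulVec_mulVec, hNN, Matrix.zero_mulVec]
  have hwv : H w v = 1 := by rw [← hsymm, hv, map_one]
  have hww : H w w = 0 := by
    rw [hw, hsa, ← hw, hNw, map_zero]
  have haσ : σ a = a := hsymm v v
  set μ := l - 1 with hμ
  let A : Matrix (Fin n) (Fin 2) F := Matrix.of fun i k => if k = 0 then v i else w i
  let R : Matrix (Fin 2) (Fin n) F := Matrix.of fun k i => if k = 0 then σ (w i) else σ (v i) - a * σ (w i)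
  let P : (Fin n → F) → (Fin n → F) := fun u => H w u • v + (H v u - a * H w u) • w
  have hRu : ∀ u, R *ᵥ u = ![H w u, H v u - a * H w u] := fun u => by
    funext k
    fin_cases k
    · simp [R, Matrix.mulVec, dotProduct, hH, hermSesq_apply, mul_comm]
    · simp only [R, Matrix.mulVec, dotProduct, hH, hermSesq_apply, Matrix.of_apply, Finset.mul_sum,
        Fin.mk_one, Fin.isValue, one_ne_zero, if_false, Matrix.cons_val_one, Matrix.cons_val_fin_one,
        ← Finset.sum_sub_distrib]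
      exact Finset.sum_congr rfl fun i _ => by ring
  have hAR : ∀ u, (A * R) *ᵥ u = P u := fun u => by
    rw [← Matrix.mulVec_mulVec, hRu]
    funext i
    simp [A, P, Matrix.mulVec, dotProduct, Fin.sum_univ_two, mul_comm]
  have hC : ∀ u, (1 + A * (μ • R)) *ᵥ u = u + μ • P u := fun u => by
    rw [Matrix.add_mulVec, Matrix.one_mulVec, Matrix.mul_smul, Matrix.smul_mulVec, hAR]
  refine ⟨1 + A * (μ • R), ?_, ?_, ?_⟩
  · have hRA : R * A = 1 := by
      have e : ∀ k : Fin 2, (fun i => A i k) = ![v, w] k := fun k => by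
        funext i; fin_cases k <;> rfl
      ext p k
      have := congrFun (hRu (fun i => A i k)) p
      rw [show (R * A) p k = (R *ᵥ fun i => A i k) p from rfl, this, e]
      fin_cases p <;> fin_cases k <;> simp [hv, hwv, hww, ha.symm, Matrix.one_apply]
    rw [Matrix.det_one_add_mul_comm, Matrix.smul_mul, hRA]
    rw [show (1 : Matrix (Fin 2) (Fin 2) F) + μ • (1 : Matrix (Fin 2) (Fin 2) F) = l • 1 by
      rw [hμ, sub_smul, one_smul]; abel]
    simp [Matrix.det_smul, pow_two]
  · have hPN : ∀ u, P (N *ᵥ u) = N *ᵥ P u := fun u => by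
      have e1 : H w (N *ᵥ u) = 0 := by rw [hH, ← hsa, hNw, map_zero, LinearMap.zero_apply]
      have e2 : H v (N *ᵥ u) = H w u := by rw [hH, ← hsa]
      simp only [P, e1, e2, mul_zero, sub_zero, zero_smul, zero_add, Matrix.mulVec_add, Matrix.mulVec_smul,
        hNw, smul_zero, add_zero, ← hw]
    apply Matrix.toLin'.injective
    refine LinearMap.ext fun u => ?_
    simp only [Matrix.toLin'_apply, ← Matrix.mulVec_mulVec, hC, hPN, Matrix.mulVec_add, Matrix.mulVec_smul]
  · intro u z
    rw [hC, hC]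
    have hμσ : σ μ + μ + σ μ * μ = 0 := by rw [hμ, map_sub, map_one]; linear_combination hl
    have h1 : ∀ y, H (P u) y = H u w * H v y + (H u v - a * H u w) * H w y := fun y => by
      simp only [P, map_add, LinearMap.map_smulₛₗ, LinearMap.add_apply, LinearMap.smul_apply, map_sub, map_mul,
        hsymm, haσ, smul_eq_mul]
    have h2 : ∀ x, H x (P z) = H w z * H x v + (H v z - a * H w z) * H x w := fun x => by
      simp only [P, map_add, map_smul, smul_eq_mul]
    have h3 : H (P u) (P z) = H u (P z) := by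
      rw [h1, h2 u, h2 v, h2 w, hwv, hww, hv, ← ha]
      ring
    simp only [map_add, LinearMap.add_apply, LinearMap.map_smulₛₗ, LinearMap.smul_apply, map_smul, smul_eq_mul,
      RingHom.id_apply, h3]
    rw [show H (P u) z = H u (P z) by rw [h1 z, h2 u]; ring]
    linear_combination (H u (P z)) * hμσ

theorem sub_one_sq (T : Matrix (Fin n) (Fin n) F) (hT : T * T = 1) : (T - 1) * (T - 1) = 0 := by
  rw [sub_mul, mul_sub, mul_sub, hT, one_mul, mul_one, one_mul]
  ext i j
  simp only [Matrix.sub_apply, Matrix.zero_apply, CharTwo.sub_eq_add]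
  linear_combination CharTwo.add_self_eq_zero ((1 : Matrix (Fin n) (Fin n) F) i j) +
    CharTwo.add_self_eq_zero (T i j)

/-- Unitary involutions of the same rank are conjugate by a unitary matrix of determinant one. -/
theorem exists_unitary_conj [Finite F] (σ : F →+* F) (hσ : σ ≠ RingHom.id F) (hσ2 : ∀ a, σ (σ a) = a)
    (A B : Matrix (Fin n) (Fin n) F) (hA : ∀ u v, hermSesq n σ (A *ᵥ u) (A *ᵥ v) = hermSesq n σ u v)
    (hB : ∀ u v, hermSesq n σ (B *ᵥ u) (B *ᵥ v) = hermSesq n σ u v) (hAA : A * A = 1) (hBB : B * B = 1)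
    (hA1 : A ≠ 1) (hr : (A - 1).rank = (B - 1).rank) :
    ∃ M : Matrix (Fin n) (Fin n) F, M.det = 1 ∧ M * A = B * M ∧
      ∀ u v, hermSesq n σ (M *ᵥ u) (M *ᵥ v) = hermSesq n σ u v := by
  set H := hermSesq n σ with hH
  have hS := hermSesq_isSymm (n := n) σ hσ2
  have hsymm : ∀ x y, σ (H x y) = H y x := fun x y => hS.eq x y
  have main : ∀ T : Matrix (Fin n) (Fin n) F, (∀ u v, H (T *ᵥ u) (T *ᵥ v) = H u v) → T * T = 1 →
      (∀ u v, H ((T - 1).mulVecLin u) v = H u ((T - 1).mulVecLin v)) ∧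
      ∃ E : (Fin (T - 1).rank → F) ≃ₗ[F] LinearMap.range (T - 1).mulVecLin, ∀ u v a c,
        (E a : Fin n → F) = (T - 1).mulVecLin u → (E c : Fin n → F) = (T - 1).mulVecLin v →
        H u ((T - 1).mulVecLin v) = ∑ i, σ (a i) * c i := by
    intro T hT hTT
    set N := (T - 1).mulVecLin with hNdef
    have hN : ∀ v, N v = T *ᵥ v - v := fun v => by
      rw [hNdef, Matrix.mulVecLin_apply, Matrix.sub_mulVec, Matrix.one_mulVec]
    have hsa : ∀ u v, H (N u) v = H u (N v) := fun u v => by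
      rw [hN, hN, map_sub, map_sub, LinearMap.sub_apply]
      congr 1
      conv_lhs => rw [← hT, Matrix.mulVec_mulVec, hTT, Matrix.one_mulVec]
    obtain ⟨sec, hsec⟩ := N.rangeRestrict.exists_rightInverse_of_surjective N.range_rangeRestrict
    have hsec' : ∀ x, N (sec x) = x.1 := fun x => congrArg Subtype.val (LinearMap.congr_fun hsec x)
    let C : LinearMap.range N →ₛₗ[σ] LinearMap.range N →ₗ[F] F :=
      LinearMap.mk₂'ₛₗ σ (RingHom.id F) (fun x y => H (sec x) y.1)
        (fun x x' y => by simp) (fun c x y => by simp)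
        (fun x y y' => by simp) (fun c x y => by simp)
    have hC : ∀ x y, C x y = H (sec x) y.1 := fun x y => rfl
    have hCS : C.IsSymm := ⟨fun x y => by
      rw [hC, hC, hsymm, ← hsec' y, hsa, hsec' x]⟩
    obtain ⟨b, hb⟩ := CfsgLib.Forms.exists_orthonormal_basis_hermitian hσ hσ2 C hCS (fun x hx => by
      apply Subtype.ext
      refine hermSesq_sep σ _ fun y => ?_
      rw [← hsec' x, ← hH, hsa]
      exact hx ⟨_, LinearMap.mem_range_self N y⟩) (n := (T - 1).rank) rfl
    refine ⟨hsa, b.equivFun.symm, fun u v a c ha hc => ?_⟩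
    have e : C (b.equivFun.symm a) (b.equivFun.symm c) = ∑ i, σ (a i) * c i := by
      simp only [Basis.equivFun_symm_apply, map_sum, LinearMap.sum_apply, LinearMap.map_smulₛₗ, map_smul,
        LinearMap.smul_apply, hb, smul_eq_mul, RingHom.id_apply]
      simp [mul_comm]
    rw [← e, hC, hc, ← hsa, ← hsa, hsec', ha]
  obtain ⟨hsa, E, hE⟩ := main A hA hAA
  obtain ⟨hsb, E', hE'⟩ := main B hB hBB
  let N := (A - 1).mulVecLin
  let N' := (B - 1).mulVecLin
  have hiso : ∀ T : Matrix (Fin n) (Fin n) F, T * T = 1 →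
      (∀ u v, H ((T - 1).mulVecLin u) v = H u ((T - 1).mulVecLin v)) →
      ∀ u v, H ((T - 1).mulVecLin u) ((T - 1).mulVecLin v) = 0 := fun T hT h u v => by
    rw [h]
    simp only [Matrix.mulVecLin_apply, Matrix.mulVec_mulVec, sub_one_sq T hT, Matrix.zero_mulVec, map_zero]
  let cast' : (Fin (A - 1).rank → F) ≃ₗ[F] (Fin (B - 1).rank → F) := LinearEquiv.funCongrLeft F F (finCongr hr.symm)
  let φ : LinearMap.range N ≃ₗ[F] LinearMap.range N' := E.symm.trans (cast'.trans E')
  have hnd : (hermSesq n σ).Nondegenerate :=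
    ⟨fun x h => hermSesq_sep σ x h, fun y h => hermSesq_sep σ y fun x => by rw [← hS.eq, h x, map_zero]⟩
  obtain ⟨g, hg, hgφ⟩ := CfsgLib.Forms.witt_hermitian hσ hσ2 H hS hnd _ _ φ (fun x x' => by
    obtain ⟨_, u, rfl⟩ := x
    obtain ⟨_, v, rfl⟩ := x'
    obtain ⟨u', hu'⟩ := (φ ⟨_, LinearMap.mem_range_self N u⟩).2
    obtain ⟨v', hv'⟩ := (φ ⟨_, LinearMap.mem_range_self N v⟩).2
    rw [← hu', ← hv', hiso B hBB hsb, hiso A hAA hsa])
  have hint : ∀ u, g (N u) = N' (g u) := by
    refine intertwine_of_isometry (fun u v => H u v) N N' g g.surjective hg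
      (fun p c h => sub_eq_zero.1 (hermSesq_sep σ _ fun z => by rw [← hH, map_sub, LinearMap.sub_apply, h z, sub_self]))
      hsb g (fun u => ?_) (fun u' => ?_) (fun u v u' v' hu hv => ?_) (fun _ => rfl)
    · rw [hgφ ⟨_, LinearMap.mem_range_self N u⟩]
      exact (φ ⟨_, LinearMap.mem_range_self N u⟩).2
    · obtain ⟨⟨_, u, rfl⟩, hx⟩ := φ.surjective ⟨_, LinearMap.mem_range_self N' u'⟩
      exact ⟨u, by rw [hgφ ⟨_, LinearMap.mem_range_self N u⟩, hx]⟩
    · rw [hgφ ⟨_, LinearMap.mem_range_self N u⟩] at hu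
      rw [hgφ ⟨_, LinearMap.mem_range_self N v⟩] at hv
      set a := E.symm ⟨_, LinearMap.mem_range_self N u⟩ with ha
      set c := E.symm ⟨_, LinearMap.mem_range_self N v⟩ with hc
      show H u' (N' v') = H u (N v)
      rw [hE u v a c (by rw [ha, E.apply_symm_apply]) (by rw [hc, E.apply_symm_apply]),
        hE' u' v' (cast' a) (cast' c) hu.symm hv.symm]
      exact Equiv.sum_comp (finCongr hr.symm) (fun i => σ (a i) * c i)
  let G := LinearMap.toMatrix' (g : (Fin n → F) →ₗ[F] (Fin n → F))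
  have hG : ∀ u, G *ᵥ u = g u := fun u => LinearMap.toMatrix'_mulVec _ u
  have hGH : ∀ u v, H (G *ᵥ u) (G *ᵥ v) = H u v := fun u v => by rw [hG, hG]; exact hg u v
  have hGN : G * (A - 1) = (B - 1) * G := by
    apply Matrix.toLin'.injective
    refine LinearMap.ext fun u => ?_
    simp only [Matrix.toLin'_apply, ← Matrix.mulVec_mulVec, hG]
    exact hint u
  have hdet : σ G.det * G.det = 1 := by
    have h := congrArg Matrix.det (transpose_mul_map_eq_one σ G hGH)
    rw [Matrix.det_mul, Matrix.det_transpose, Matrix.det_one, ← RingHom.mapMatrix_apply, ← RingHom.map_det] at h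
    rw [mul_comm]; exact h
  haveI : Fact (Nat.Prime 2) := ⟨Nat.prime_two⟩
  obtain ⟨l, hl⟩ : ∃ l : F, l * l = (G.det)⁻¹ :=
    ⟨(frobeniusEquiv F 2).symm (G.det)⁻¹, by rw [← pow_two, frobeniusEquiv_symm_pow_p (R := F) 2]⟩
  have hlσ : σ l * l = 1 := by
    apply CharTwo.sq_inj.1
    rw [one_pow, mul_pow, ← map_pow, pow_two, hl, map_inv₀, ← mul_inv, hdet, inv_one]
  have hpos : 0 < (A - 1).rank := by
    refine Nat.pos_of_ne_zero fun h => hA1 ?_
    rw [Matrix.rank, Submodule.finrank_eq_zero, LinearMap.range_eq_bot] at h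
    rw [← sub_eq_zero]
    exact Matrix.toLin'.map_eq_zero_iff.1 h
  obtain ⟨v, hv⟩ := (E (Pi.single (⟨0, hpos⟩ : Fin (A - 1).rank) 1)).2
  obtain ⟨C, hCdet, hCN, hCH⟩ := exists_commute_det σ hσ2 (A - 1) hsa (sub_one_sq A hAA) v (by
    have h := hE v v _ _ hv.symm hv.symm
    rw [Finset.sum_eq_single (⟨0, hpos⟩ : Fin (A - 1).rank) (fun b _ hb => by simp [hb]) (by simp)] at h
    simpa [Matrix.mulVecLin_apply, Matrix.sub_mulVec, Matrix.one_mulVec, map_sub] using h) l hlσ
  refine ⟨G * C, ?_, ?_, fun u v => by rw [← Matrix.mulVec_mulVec, ← Matrix.mulVec_mulVec, hGH]; exact hCH u v⟩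
  · rw [Matrix.det_mul, hCdet, hl, mul_inv_cancel₀]
    intro h0
    simp [h0] at hdet
  · have h : G * C * (A - 1) = (B - 1) * (G * C) := by
      rw [Matrix.mul_assoc, hCN, ← Matrix.mul_assoc, hGN, Matrix.mul_assoc]
    rw [Matrix.mul_sub, Matrix.sub_mul, Matrix.mul_one, Matrix.one_mul] at h
    exact sub_left_injective h

end CfsgLib.CharTwo
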